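import Cfsg.Agent.GH.Defs
import Cfsg.Agent.SylowG2.Coord
import Cfsg.Agent.ClassificationK.GTwoSylow
import Cfsg.Agent.S1059
import Mathlib.NumberTheory.LSeries.PrimesInAP

/-!
# `TG2` implies `TypeG2`

A 2-group with the coordinates `SylowG2.Coord.TG2` (`m ≥ 2`) is isomorphic to the Sylow 2-subgroups of `G₂(p)` for
a prime `p ≡ 1 + 2^m mod 2^(m+1)` (Dirichlet).
-/

set_option autoImplicit false
set_option linter.style.haveILetI false

namespace Cfsg.Agent.GH.QB

open Subgroup Cfsg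
open Cfsg.Agent.SylowG2.Coord Cfsg.Agent.ClassificationK.GTwoModel Cfsg.Agent.GH.Defs

/-! ### the model -/

section model

variable {G : Type*} [Group G] {S : Subgroup G} {m : ℕ} {v : ZMod (2 ^ m) → ZMod (2 ^ m) → G} {r s : G}

/-- the four-group part -/
def fourPart (r s : G) (e d : Bool) : G := cond e s 1 * cond d r 1

/-- the map from the model -/
def toG (v : ZMod (2 ^ m) → ZMod (2 ^ m) → G) (r s : G) (x : T (2 ^ m)) : G :=
  v x.i x.j * fourPart r s x.e x.d

theorem four_v (h : TG2 S m v r s) (e d : Bool) (i j : ZMod (2 ^ m)) :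
    fourPart r s e d * v i j = v (sg (2 ^ m) e * cond d j i) (sg (2 ^ m) e * cond d i j) * fourPart r s e d := by
  cases e <;> cases d <;>
    simp only [fourPart, sg_true, sg_false, cond_true, cond_false, one_mul, mul_one, neg_mul]
  · exact h.r_v i j
  · exact h.s_v i j
  · rw [← h.r_s, h.rs_v]

theorem four_mul (h : TG2 S m v r s) (e d e' d' : Bool) :
    fourPart r s e d * fourPart r s e' d' = fourPart r s (xor e e') (xor d d') := by
  have hr := h.r_r
  have hs := h.s_s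
  have hrs := h.r_s
  cases e <;> cases d <;> cases e' <;> cases d' <;>
    simp only [fourPart, cond_true, cond_false, Bool.xor_false, Bool.xor_true,
      Bool.not_true, Bool.not_false, one_mul, mul_one]
  · exact hr
  · exact hrs
  · rw [← hrs, ← mul_assoc, hr, one_mul]
  · exact hs
  · rw [← mul_assoc, hs, one_mul]
  · rw [mul_assoc, hr, mul_one]
  · rw [mul_assoc, hrs, ← mul_assoc, hs, one_mul]
  · rw [← hrs]; exact h.rs_rs

theorem toG_mul (h : TG2 S m v r s) (x y : T (2 ^ m)) : toG v r s (x * y) = toG v r s x * toG v r s y := by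
  obtain ⟨i, j, e, d⟩ := x
  obtain ⟨i', j', e', d'⟩ := y
  rw [T.mul_mk]
  simp only [toG]
  calc _ = v i j * v (sg (2 ^ m) e * cond d j' i') (sg (2 ^ m) e * cond d i' j') *
        (fourPart r s e d * fourPart r s e' d') := by rw [h.v_mul, four_mul h]
    _ = v i j * (v (sg (2 ^ m) e * cond d j' i') (sg (2 ^ m) e * cond d i' j') * fourPart r s e d) *
        fourPart r s e' d' := by simp only [mul_assoc]
    _ = v i j * (fourPart r s e d * v i' j') * fourPart r s e' d' := by rw [four_v h]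
    _ = _ := by simp only [mul_assoc]

theorem four_mem (h : TG2 S m v r s) (e d : Bool) : fourPart r s e d ∈ S := by
  cases e <;> cases d <;> simp only [fourPart, cond_true, cond_false, one_mul, mul_one]
  · exact S.one_mem
  · exact h.r_mem
  · exact h.s_mem
  · exact S.mul_mem h.s_mem h.r_mem

theorem toG_mem (h : TG2 S m v r s) (x : T (2 ^ m)) : toG v r s x ∈ S :=
  S.mul_mem (h.v_mem _ _) (four_mem h _ _)

/-- the homomorphism from the model onto `S` -/
def modelHom (h : TG2 S m v r s) : T (2 ^ m) →* S :=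
  MonoidHom.mk' (fun x => ⟨toG v r s x, toG_mem h x⟩) fun x y => Subtype.ext (toG_mul h x y)

theorem modelHom_injective (h : TG2 S m v r s) : Function.Injective (modelHom h) := by
  rw [injective_iff_map_eq_one]
  rintro ⟨i, j, e, d⟩ hx
  have h1 : v i j * fourPart r s e d = 1 := congrArg Subtype.val hx
  have h2 : v i j * fourPart r s e d = v 0 0 := by rw [h1, h.v_zero]
  cases e <;> cases d <;> simp only [fourPart, cond_true, cond_false, one_mul, mul_one] at h1 h2
  · obtain ⟨rfl, rfl⟩ := h.v_inj i j h1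
    rfl
  · exact absurd h2 (h.vr_ne _ _ _ _)
  · exact absurd h2 (h.vs_ne _ _ _ _)
  · rw [← h.r_s] at h2
    exact absurd h2 (h.vrs_ne _ _ _ _)

theorem modelHom_surjective (h : TG2 S m v r s) : Function.Surjective (modelHom h) := by
  rintro ⟨g, hg⟩
  obtain ⟨i, j, h1 | h1 | h1 | h1⟩ := h.cases g hg
  · exact ⟨⟨i, j, false, false⟩, Subtype.ext (by simp [modelHom, toG, fourPart, h1])⟩
  · exact ⟨⟨i, j, false, true⟩, Subtype.ext (by simp [modelHom, toG, fourPart, h1])⟩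
  · exact ⟨⟨i, j, true, false⟩, Subtype.ext (by simp [modelHom, toG, fourPart, h1])⟩
  · exact ⟨⟨i, j, true, true⟩, Subtype.ext (by simp [modelHom, toG, fourPart, h1, h.r_s])⟩

/-- the model is isomorphic to `S` -/
noncomputable def modelEquiv (h : TG2 S m v r s) : T (2 ^ m) ≃* S :=
  MulEquiv.ofBijective (modelHom h) ⟨modelHom_injective h, modelHom_surjective h⟩

end model

/-! ### the prime -/

/-- for `m ≥ 2` there is a prime `p` with `(p² - 1)_2 = 2^(m+1)` -/
theorem exists_prime (m : ℕ) (hm : 2 ≤ m) :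
    ∃ p : ℕ, p.Prime ∧ Odd p ∧ ∃ c, Odd c ∧ p ^ 2 - 1 = 4 * 2 ^ (m - 1) * c := by
  obtain ⟨k, rfl⟩ : ∃ k, m = k + 2 := ⟨m - 2, by omega⟩
  have hne : NeZero (2 ^ (k + 3)) := ⟨by positivity⟩
  have hu : IsUnit (((1 + 2 ^ (k + 2) : ℕ)) : ZMod (2 ^ (k + 3))) := by
    rw [ZMod.isUnit_iff_coprime, Nat.coprime_pow_right_iff (by omega), Nat.coprime_two_right]
    refine Odd.add_even odd_one ?_
    rw [pow_succ]
    exact even_two.mul_left _
  obtain ⟨p, hp2, hp, hpm⟩ := Nat.forall_exists_prime_gt_and_eq_mod hu 2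
  rw [ZMod.natCast_eq_natCast_iff] at hpm
  have h1 : (p : ℕ) % 2 ^ (k + 3) = 1 + 2 ^ (k + 2) := by
    have h2 : (1 + 2 ^ (k + 2)) % 2 ^ (k + 3) = 1 + 2 ^ (k + 2) := by
      apply Nat.mod_eq_of_lt
      have h3 : 2 ^ (k + 3) = 2 * 2 ^ (k + 2) := by ring
      have h4 : 1 < 2 ^ (k + 2) := Nat.one_lt_two_pow (by omega)
      omega
    rw [← h2]
    exact hpm
  obtain ⟨a, ha⟩ : ∃ a, p = 2 ^ (k + 3) * a + (1 + 2 ^ (k + 2)) := by
    refine ⟨p / 2 ^ (k + 3), ?_⟩
    rw [← h1]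
    exact (Nat.div_add_mod p _).symm
  -- `p - 1 = 2^(k+2) (2a + 1)`, `p + 1 = 2 (2^(k+1)(2a+1) + 1)`
  have e1 : p = 2 ^ (k + 2) * (2 * a + 1) + 1 := by rw [ha]; ring
  refine ⟨p, hp, ?_, (2 * a + 1) * (2 ^ (k + 1) * (2 * a + 1) + 1), ?_, ?_⟩
  · rw [e1, pow_succ]
    exact ⟨2 ^ (k + 1) * (2 * a + 1), by ring⟩
  · refine Odd.mul ⟨a, rfl⟩ ?_
    rw [pow_succ]
    exact ⟨2 ^ k * (2 * a + 1), by ring⟩
  · rw [show k + 2 - 1 = k + 1 by omega]
    have e2 : p ^ 2 = 4 * 2 ^ (k + 1) * ((2 * a + 1) * (2 ^ (k + 1) * (2 * a + 1) + 1)) + 1 := by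
      rw [e1]; ring
    rw [e2, Nat.add_sub_cancel]

/-- **`TG2` implies `TypeG2`** -/
theorem typeG2_of_TG2 {G : Type*} [Group G] {S : Subgroup G} {m : ℕ} {v : ZMod (2 ^ m) → ZMod (2 ^ m) → G}
    {r s : G} (h : TG2 S m v r s) : TypeG2 ↥S := by
  classical
  haveI : Fact (Nat.Prime 2) := ⟨Nat.prime_two⟩
  obtain ⟨p, hp, hpo, c, hc, hpc⟩ := exists_prime m h.hm
  haveI : Fact p.Prime := ⟨hp⟩
  have hcard : Fintype.card (ZMod p) = p := ZMod.card p
  have hodd : Odd (Fintype.card (ZMod p)) := by rw [hcard]; exact hpo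
  refine ⟨ZMod p, inferInstance, inferInstance, hodd, ?_⟩
  obtain ⟨P⟩ : Nonempty (Sylow 2 ↥(Cfsg.Lie.chevG2.group (ZMod p))) := inferInstance
  have hG := Cfsg.Agent.S1059.result (F := ZMod p) rfl
  obtain ⟨k, hk, ⟨e⟩⟩ := Cfsg.Agent.ClassificationK.GTwoSylow.exists_equiv hodd hG P
  refine ⟨P, ⟨?_⟩⟩
  have hkm : k = m - 1 := by
    have h1 : Nat.card ↥(P : Subgroup ↥(Cfsg.Lie.chevG2.group (ZMod p))) = 2 ^ (2 * (m - 1 + 2)) := by
      rw [P.card_eq_multiplicity, hG, hcard,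
        Cfsg.Agent.ClassificationK.GTwoSylow.factorization_card p (m - 1) c hpo hp.one_lt hc hpc]
    rw [← Nat.card_congr e.toEquiv, T.card_T] at h1
    have h2 : 4 * (2 * 2 ^ k) ^ 2 = 2 ^ (2 * (k + 2)) := by
      rw [two_mul (k + 2), pow_add, pow_add]; ring
    rw [h2] at h1
    have := Nat.pow_right_injective (le_refl 2) h1
    omega
  have hkm2 : 2 * 2 ^ k = 2 ^ m := by
    rw [hkm, ← pow_succ', Nat.sub_add_cancel h.m_pos]
  rw [hkm2] at e
  exact (modelEquiv h).symm.trans e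

end Cfsg.Agent.GH.QB
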