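import Cfsg.Agent.GH.QARank
import Cfsg.Agent.GH.QADefs
import Cfsg.Agent.GH.Tops
import Cfsg.Agent.GH.PumpUp

/-!
# GH-Q: existence of a 2-component containing its involution

`exists_qc`: sectional 2-rank at most 4 and some 2-component of the centralizer of an involution has even
centre: then there are an involution `z` and a 2-component of `C(z)` containing `z` (any types).
-/

set_option autoImplicit false

open Cfsg Subgroup
open Cfsg.Agent.SignalizersComponents.IntrinsicBasic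
open Cfsg.Agent.Intrinsic.Basic Cfsg.Agent.Intrinsic.Cen
open Cfsg.Agent.GH.Defs Cfsg.Agent.GH.Rank Cfsg.Agent.GH.Comp Cfsg.Agent.GH.Tops
open scoped commutatorElement

namespace Cfsg.Agent.GH.QB.Exists

variable {G : Type*} [Group G] [Finite G]

omit [Finite G] in
theorem fixes_mul {X J : Subgroup G} {a b : G} (ha : Fixes a J) (hb : Fixes b J) :
    Fixes (a * b) J := by
  refine ⟨mul_mem ha.1 hb.1, fun y hy => ?_⟩
  have h1 : ⁅a * b, y⁆ = a * ⁅b, y⁆ * a⁻¹ * ⁅a, y⁆ := by
    simp only [commutatorElement_def]; group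
  rw [h1]
  exact mul_mem (conj_mem_core ha.1 (hb.2 y hy)) (ha.2 y hy)

omit [Finite G] in
theorem fixes_inv {J : Subgroup G} {a : G} (ha : Fixes a J) : Fixes a⁻¹ J := by
  refine ⟨inv_mem ha.1, fun y hy => ?_⟩
  have hy' : a⁻¹ * y * a ∈ J := by
    have := (mem_normalizer_iff.mp (inv_mem ha.1) y).mp hy
    simpa using this
  have h1 : ⁅a⁻¹, y⁆ = (⁅a, a⁻¹ * y * a⁆)⁻¹ := by
    simp only [commutatorElement_def]; group
  rw [h1]
  exact inv_mem (ha.2 _ hy')

/-- odd centre: an element of `J` fixing `J` lies in the core -/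
theorem mem_core_of_fixes {J : Subgroup G} (hodd : ¬ EvenCenter J) {j : G} (hj : j ∈ J)
    (hf : Fixes j J) : j ∈ core J := by
  have hp : Fact (Nat.Prime 2) := ⟨Nat.prime_two⟩
  have h1 := center_of_fixes hj hf
  have h2 : center (Bar J) ≤ oddCore (Bar J) := by
    refine Lib.Cores.le_pPrimeCore inferInstance ?_
    rw [Nat.coprime_two_right, ← Nat.not_even_iff_odd]
    exact hodd
  have h3 : oddCore (Bar J) = ⊥ := Lib.Cores.pPrimeCore_quotient_pPrimeCore 2
  have h4 := h2 h1
  rw [h3, mem_bot] at h4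
  exact ⟨⟨j, hj⟩, (QuotientGroup.eq_one_iff _).mp h4, rfl⟩

/-- the product of an element of `core A` and one of `core B` when `B` normalises -/
theorem odd_sup {H X : Subgroup G} (hHX : H ≤ X) : Odd (Nat.card (core H ⊔ core X : Subgroup G)) := by
  have h1 : core H ≤ normalizer (core X : Set G) :=
    (core_le H).trans (hHX.trans (le_normalizer_core X))
  have h2 : (Nat.card (core H ⊔ core X : Subgroup G)) ∣ Nat.card (core H) * Nat.card (core X) := by
    let M : Subgroup G := core H ⊔ core X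
    have hA : core H ≤ M := le_sup_left
    have hB : core X ≤ M := le_sup_right
    have hn : ((core X).subgroupOf M).Normal :=
      (normal_subgroupOf_iff_le_normalizer hB).2 (sup_le h1 le_normalizer)
    have h3 := Lib.Cores.card_sup_dvd ((core X).subgroupOf M) ((core H).subgroupOf M) hn
    have h4 : (core X).subgroupOf M ⊔ (core H).subgroupOf M = ⊤ := by
      rw [← subgroupOf_sup hB hA, sup_comm, subgroupOf_self]
    rw [h4, card_top, Nat.card_congr (subgroupOfEquivOfLe hA).toEquiv,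
      Nat.card_congr (subgroupOfEquivOfLe hB).toEquiv, Nat.mul_comm] at h3
    exact h3
  exact ((odd_card_core H).mul (odd_card_core X)).of_dvd_nat h2

/-- diagonal pump-up: `J` has even centre -/
theorem even_of_diagonal {x z : G} (hz : orderOf z = 2) (hxz : x * z = z * x)
    {J : Subgroup G} (hJ : IsComp (centralizer ({z} : Set G)) J) (hne : cj x J ≠ J)
    (hd : ∃ j ∈ J, z⁻¹ * (j * (x * j * x⁻¹)) ∈ core (centralizer ({z} : Set G))) :
    EvenCenter J := by
  by_contra hodd
  obtain ⟨j, hj, hjc⟩ := hd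
  set X := centralizer ({z} : Set G) with hX
  have hxX : x ∈ X := mem_centralizer_singleton_iff.mpr hxz
  have hJx : IsComp X (cj x J) := by
    have := hJ.cj x
    rwa [cj_eq_self_of_mem hxX] at this
  obtain ⟨j', hj'⟩ : ∃ j', j' = x * j * x⁻¹ := ⟨_, rfl⟩
  have hj'J : j' ∈ cj x J := hj' ▸ conj_mem_cj hj
  rw [← hj'] at hjc
  obtain ⟨o, ho⟩ : ∃ o, o = z⁻¹ * (j * j') := ⟨_, rfl⟩
  rw [← ho] at hjc
  have hfj : Fixes j J := by
    have h1 : j = z * o * j'⁻¹ := by rw [ho]; group
    rw [h1]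
    exact fixes_mul (X := X) (fixes_mul (X := X) (fixes_self hJ.le) (hJ.fixes_of_core hjc))
      (fixes_inv (hJ.fixes_of_mem hJx hne.symm hj'J))
  have h2 : j ∈ core X := hJ.core_le_core (mem_core_of_fixes hodd hj hfj)
  have h3 : j' ∈ core X := by
    rw [hj']
    exact conj_mem_core (le_normalizer hxX) h2
  have h4 : z ∈ core X := by
    have h1 : z = j * j' * o⁻¹ := by rw [ho]; group
    rw [h1]
    exact mul_mem (mul_mem h2 h3) (inv_mem hjc)
  have h5 := eq_one_of_mem_core_sq h4 (by rw [← pow_two, ← hz, pow_orderOf_eq_one])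
  rw [h5, orderOf_one] at hz
  omega

/-- Two distinct 2-components `L`, `L'` of `X ⊓ C(x)` have different pump-ups. -/
theorem not_both_diagonal {X L L' M : Subgroup G} {x : G} (hx : x ∈ X) (hx2 : x * x = 1)
    (hL : IsComp (X ⊓ centralizer ({x} : Set G)) L)
    (hL' : IsComp (X ⊓ centralizer ({x} : Set G)) L') (hLL : L ≠ L')
    (hM : IsComp X M) (hn : x ∉ normalizer (M : Set G)) (h1 : L ≤ M ⊔ cj x M)
    (h2 : L' ≤ M ⊔ cj x M) : False := by
  obtain ⟨d1, -, -⟩ := PumpUp.diagonal hx hx2 hL hM h1 hn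
  obtain ⟨-, d2, -⟩ := PumpUp.diagonal hx hx2 hL' hM h2 hn
  set H := X ⊓ centralizer ({x} : Set G) with hH
  have hHX : H ≤ X := inf_le_left
  -- `L' ≤ L core X`
  have h3 : ∀ a ∈ L', ∃ l ∈ L, l⁻¹ * a ∈ core X := by
    intro a ha
    obtain ⟨m, hm, hm'⟩ := d2 a ha
    obtain ⟨l, hl, hl'⟩ := d1 m hm
    refine ⟨l, hl, ?_⟩
    have : l⁻¹ * a = (l⁻¹ * (m * (x * m * x⁻¹))) * (a⁻¹ * (m * (x * m * x⁻¹)))⁻¹ := by group
    rw [this]
    exact mul_mem hl' (inv_mem hm')
  have hXn : ∀ {g : G}, g ∈ X → ∀ {c : G}, c ∈ core X → g * c * g⁻¹ ∈ core X := fun hg _ hc =>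
    conj_mem_core (le_normalizer hg) hc
  have h4 : L' ≤ core H ⊔ core X := by
    rw [← hL'.perfect, commutator_le]
    intro a ha b hb
    obtain ⟨l, hl, hla⟩ := h3 a ha
    obtain ⟨o, ho⟩ : ∃ o, o = l⁻¹ * a := ⟨_, rfl⟩
    rw [← ho] at hla
    have ha' : a = l * o := by rw [ho]; group
    have h5 : ⁅a, b⁆ = l * (o * (b * o⁻¹ * b⁻¹)) * l⁻¹ * ⁅l, b⁆ := by
      rw [ha', commutatorElement_def, commutatorElement_def]; group
    rw [h5]
    have hlX : l ∈ X := hHX (hL.le hl)
    have hbX : b ∈ X := hHX (hL'.le hb)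
    refine mul_mem (mem_sup_right ?_) (mem_sup_left ?_)
    · exact hXn hlX (mul_mem hla (hXn hbX (inv_mem hla)))
    · exact hL.core_le_core (hL.comm_le_core hL' hLL (commutator_mem_commutator hl hb)).1
  exact hL'.not_odd (odd_sup hHX) h4

/-- **existence of an intrinsic pair** -/
theorem exists_qc (h4 : SectionalPRankLE 2 4 G) {x : G} {K : Subgroup G} (c : Comp2 x K)
    (he : EvenCenter K) : ∃ (z : G) (L : Subgroup G), QA.QC z L := by
  obtain ⟨z, hzK, hz, hfix⟩ := exists_inv he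
  have hzz : z * z = 1 := by rw [← pow_two, ← hz, pow_orderOf_eq_one]
  have hxx : x * x = 1 := by rw [← pow_two, ← c.inv, pow_orderOf_eq_one]
  have hzC : z ∈ centralizer ({x} : Set G) := c.comp.le hzK
  have hxz : x * z = z * x := (mem_centralizer_singleton_iff.mp hzC).symm
  have hxC : x ∈ centralizer ({z} : Set G) := mem_centralizer_singleton_iff.mpr hxz
  obtain ⟨h1, -⟩ := isComp_cen c.comp hzC hzz hfix
  rw [inf_comm] at h1
  have hz0 : z ∈ cen K z := mem_cen_of_sq hzK rfl hzz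
  obtain ⟨J, hJ, hle⟩ := PumpUp.exists_comp hxC hxx h1
  by_cases hn : x ∈ normalizer (J : Set G)
  · have hcj : cj x J = J := mem_normalizer_iff_cj.mp hn
    rw [hcj, sup_idem] at hle
    exact ⟨z, J, ⟨hz, hJ⟩, hle hz0⟩
  have hne : cj x J ≠ J := fun h => hn (mem_normalizer_iff_cj.mpr h)
  have hJx : IsComp (centralizer ({z} : Set G)) (cj x J) := by
    have := hJ.cj x
    rwa [cj_eq_self_of_mem hxC] at this
  obtain ⟨-, hd, -⟩ := PumpUp.diagonal hxC hxx h1 hJ hle hn
  have heJ : EvenCenter J := even_of_diagonal hz hxz hJ hne (hd z hz0)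
  -- the involution of `J`
  obtain ⟨u, huJ, hu, hfu⟩ := exists_inv heJ
  have huu : u * u = 1 := by rw [← pow_two, ← hu, pow_orderOf_eq_one]
  have huC : u ∈ centralizer ({z} : Set G) := hJ.le huJ
  have hzu : z * u = u * z := (mem_centralizer_singleton_iff.mp huC).symm
  have hzC' : z ∈ centralizer ({u} : Set G) := mem_centralizer_singleton_iff.mpr hzu
  obtain ⟨k1, -⟩ := isComp_cen hJ huC huu hfu
  obtain ⟨k2, -⟩ := isComp_cen hJx huC huu (hJx.fixes_of_mem hJ hne huJ)
  rw [inf_comm] at k1 k2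
  have hu0 : u ∈ cen J u := mem_cen_of_sq huJ rfl huu
  obtain ⟨M, hM, hMle⟩ := PumpUp.exists_comp hzC' hzz k1
  by_cases hnM : z ∈ normalizer (M : Set G)
  · have hcj : cj z M = M := mem_normalizer_iff_cj.mp hnM
    rw [hcj, sup_idem] at hMle
    exact ⟨u, M, ⟨hu, hM⟩, hMle hu0⟩
  exfalso
  have hneM : cj z M ≠ M := fun h => hnM (mem_normalizer_iff_cj.mpr h)
  have hMz : IsComp (centralizer ({u} : Set G)) (cj z M) := by
    have := hM.cj z
    rwa [cj_eq_self_of_mem hzC'] at this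
  obtain ⟨N, hN, hNle⟩ := PumpUp.exists_comp hzC' hzz k2
  have hNM : N ⊔ cj z N = M ⊔ cj z M := by
    rcases QA.only_two h4 hM hMz hN hneM.symm with h | h
    · rw [h]
    · rw [h, PumpUp.cj_cj_of_sq hzz, sup_comm]
  rw [hNM] at hNle
  refine not_both_diagonal hzC' hzz k1 k2 ?_ hM hnM hMle hNle
  intro h
  -- `cen J u = cen (cj x J) u` would lie in two components
  have k3 : cen J u ≤ J := cen_le J u
  have k4 : cen J u ≤ cj x J := h ▸ cen_le (cj x J) u
  exact hne (k1.unique hJx hJ k4 k3)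

end Cfsg.Agent.GH.QB.Exists
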