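import Cfsg.Agent.GH.QAZStar
import Cfsg.Agent.GH.Comp
import Cfsg.Agent.Cit.OneBasic
import Cfsg.Agent.Cit.Commute
import Cfsg.Agent.TwoFusion.QuatQuotient

/-!
# GH-Q, scenario B: the bridge to `Cit.One`

`Frame G`, `QC z K` and no conjugate `≠ z` of `z` commuting with `z` fixes `K`: the class of `K` satisfies
`Cit.One` (the case `|Om(S)| = 1` of the classical involution theorem).
-/

set_option autoImplicit false

open Cfsg Subgroup
open Cfsg.Agent.Intrinsic.Basic Cfsg.Agent.Intrinsic.Cen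
open Cfsg.Agent.GH.Defs Cfsg.Agent.GH.QA
open scoped commutatorElement

namespace Cfsg.Agent.GH.QB.Bridge

variable {G : Type*} [Group G]

/-- scenario B: no conjugate `≠ z` of `z` commuting with `z` fixes `K` -/
def ScB (z : G) (K : Subgroup G) : Prop :=
  ∀ g : G, z * (g * z * g⁻¹) = (g * z * g⁻¹) * z → Fixes (g * z * g⁻¹) K → g * z * g⁻¹ = z

section

variable [Finite G] {z : G} {K : Subgroup G}

omit [Finite G] in
theorem comm_z (q : QC z K) {k : G} (hk : k ∈ K) : k * z = z * k :=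
  mem_centralizer_singleton_iff.1 (q.comp.comp.le hk)

theorem qt (F : Frame G) (q : QC z K) : QT K :=
  F.even_qt z K q.comp (GH.Comp.evenCenter_of_mem q.comp q.mem)

omit [Finite G] in
theorem z_sq (q : QC z K) : z * z = 1 := by
  rw [← pow_two, ← q.comp.inv, pow_orderOf_eq_one]

omit [Finite G] in
theorem z_ne (q : QC z K) : z ≠ 1 := by
  intro h
  have := q.comp.inv
  rw [h, orderOf_one] at this
  omega

theorem eq_z (F : Frame G) (q : QC z K) {t : G} (ht : t ∈ K) (h2 : t * t = 1) (h1 : t ≠ 1) :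
    t = z :=
  qt F q t ht z q.mem h2 (z_sq q) h1 (z_ne q) (comm_z q ht)

omit [Finite G] in
/-- a conjugate of a `QC` pair -/
theorem QC.cj' (q : QC z K) (g : G) : QC (g * z * g⁻¹) (Cit.cj g K) := by
  refine ⟨⟨?_, ?_⟩, Cit.conj_mem_cj q.mem⟩
  · rw [← q.comp.inv]
    exact (MulAut.conj g).orderOf_eq z
  · have h1 := q.comp.comp.cj g
    rwa [show SignalizersComponents.IntrinsicBasic.cj g (centralizer ({z} : Set G)) =
      centralizer {g * z * g⁻¹} from Cit.cj_centralizer g z] at h1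

omit [Finite G] in
/-- `C(z)` normalises `K` -/
theorem centralizer_le (F : Frame G) (q : QC z K) :
    centralizer ({z} : Set G) ≤ normalizer (K : Set G) := by
  intro u hu
  have hu' : u * z * u⁻¹ = z := by
    rw [mem_centralizer_singleton_iff.1 hu]; group
  have q' := QC.cj' q u
  rw [hu'] at q'
  rw [Cit.mem_normalizer_iff_cj]
  exact F.one z _ _ q'.comp q.comp q'.mem q.mem

theorem hyp (F : Frame G) (q : QC z K) : Cit.Hyp (Cit.cls K) ∧ Cit.zz K = z := by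
  have hp2 : Fact (Nat.Prime 2) := ⟨Nat.prime_two⟩
  have huniq : ∀ t ∈ K, orderOf t = 2 → t = z := by
    intro t ht ht2
    refine eq_z F q ht ?_ ?_
    · rw [← pow_two, ← ht2, pow_orderOf_eq_one]
    · intro h
      rw [h, orderOf_one] at ht2
      omega
  have hperf' : commutator ↥K = ⊤ :=
    (Subgroup.isPerfect_iff.mpr q.comp.comp.perfect).commutator_eq_top
  refine Cit.hyp_of_class z q.comp.inv K q.mem q.comp.comp.2.1 ?_ huniq ?_ ?_
  · let P : Sylow 2 ↥K := default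
    obtain ⟨m, hm, he⟩ := TwoFusion.QuatQuotient.exists_quaternion_sylow hperf' (⟨z, q.mem⟩ : K)
      (by rw [← Subgroup.orderOf_coe]; exact q.comp.inv)
      (fun x hx => Subtype.ext (huniq x x.2 (by rw [← Subgroup.orderOf_coe] at hx; exact hx))) P
    refine ⟨P, m - 1, ?_⟩
    rwa [Nat.sub_add_cancel hm]
  · intro u hu
    left
    exact Cit.mem_normalizer_iff_cj.1 (centralizer_le F q hu)
  · intro y _ g _ _ hgy
    exact centralizer_le F q hgy

/-- an involution `e` normalising `K` which is not conjugate to `e z` under `K` fixes `K` -/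
theorem fixes_of_not_conj (F : Frame G) (q : QC z K) {e : G} (heK : e ∈ normalizer (K : Set G))
    (he2 : e * e = 1) (hn : ∀ k ∈ K, k * e * k⁻¹ ≠ z * e) : Fixes e K := by
  by_cases he1 : e = 1
  · rw [he1]
    refine ⟨one_mem _, fun y _ => ?_⟩
    rw [commutatorElement_one_left]
    exact one_mem _
  have hei : e⁻¹ = e := inv_eq_of_mul_eq_one_left he2
  set M : Subgroup G := zpowers e ⊔ K with hM
  have hKM : K ≤ M := le_sup_right
  have heM : e ∈ M := mem_sup_left (mem_zpowers e)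
  have hn1 : zpowers e ≤ normalizer (K : Set G) := zpowers_le.2 heK
  have hMn : M ≤ normalizer (K : Set G) := sup_le hn1 le_normalizer
  have h1 : ∀ m ∈ M, ⁅e, m⁆ ∈ core M := by
    refine zstar_rel heM he2 he1 ?_
    intro m hm hme
    have hmi : m⁻¹ ∈ zpowers e ⊔ K := M.inv_mem hm
    obtain ⟨a, ha, k, hk, hmk⟩ := Cit.OneBasic.exists_mul_of_mem_sup hn1 hmi
    have hm' : m = k⁻¹ * a⁻¹ := by rw [← inv_inv m, hmk]; group
    have hae : a⁻¹ * e * a = e := by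
      obtain ⟨i, rfl⟩ := ha
      have : Commute (e ^ i) e := (Commute.refl e).zpow_left i
      calc (e ^ i)⁻¹ * e * e ^ i = (e ^ i)⁻¹ * (e * e ^ i) := by group
        _ = (e ^ i)⁻¹ * (e ^ i * e) := by rw [this.eq]
        _ = e := by group
    have h3 : m * e * m⁻¹ = k⁻¹ * e * k := by
      rw [hm']
      calc k⁻¹ * a⁻¹ * e * (k⁻¹ * a⁻¹)⁻¹ = k⁻¹ * (a⁻¹ * e * a) * k := by group
        _ = k⁻¹ * e * k := by rw [hae]
    rw [h3] at hme ⊢
    obtain ⟨c, hc⟩ : ∃ c, c = k⁻¹ * e * k * e := ⟨_, rfl⟩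
    have hcK : c ∈ K := by
      have h4 := (mem_normalizer_iff.1 heK k).1 hk
      rw [hei] at h4
      rw [hc, show k⁻¹ * e * k * e = k⁻¹ * (e * k * e) by group]
      exact K.mul_mem (K.inv_mem hk) h4
    have hcc : c * c = 1 := by
      have h5 : (k⁻¹ * e * k) * (k⁻¹ * e * k) = 1 := by
        calc (k⁻¹ * e * k) * (k⁻¹ * e * k) = k⁻¹ * (e * e) * k := by group
          _ = 1 := by rw [he2]; group
      calc c * c = (k⁻¹ * e * k) * (e * (k⁻¹ * e * k)) * e := by rw [hc]; group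
        _ = (k⁻¹ * e * k) * ((k⁻¹ * e * k) * e) * e := by rw [hme]
        _ = ((k⁻¹ * e * k) * (k⁻¹ * e * k)) * (e * e) := by group
        _ = 1 := by rw [h5, he2, one_mul]
    have hce : k⁻¹ * e * k = c * e := by
      rw [hc]
      calc k⁻¹ * e * k = k⁻¹ * e * k * (e * e) := by rw [he2, mul_one]
        _ = _ := by group
    by_cases hc1 : c = 1
    · rw [hce, hc1, one_mul]
    · exfalso
      have hcz := eq_z F q hcK hcc hc1
      apply hn k⁻¹ (K.inv_mem hk)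
      rw [inv_inv, hce, hcz]
  refine ⟨heK, fun y hy => ?_⟩
  have h2 := h1 y (hKM hy)
  have h3 : K ⊓ core M ≤ core K := by
    refine le_core inf_le_left ?_ ?_
    · intro k hk
      have h5 : k ∈ normalizer (core M : Set G) := le_normalizer_core M (hKM hk)
      rw [Cit.mem_normalizer_iff_cj] at h5 ⊢
      rw [Cit.cj_inf, h5, Cit.mem_normalizer_iff_cj.1 (le_normalizer hk)]
    · exact (odd_card_core M).of_dvd_nat (Subgroup.card_dvd_of_le inf_le_right)
  apply h3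
  refine ⟨?_, h2⟩
  rw [commutatorElement_def]
  exact K.mul_mem ((mem_normalizer_iff.1 heK y).1 hy) (K.inv_mem hy)

/-- **the bridge** -/
theorem one (F : Frame G) (q : QC z K) (hB : ScB z K) : Cit.One (Cit.cls K) ∧ Cit.zz K = z := by
  obtain ⟨h, hz⟩ := hyp F q
  refine ⟨⟨h, ?_⟩, hz⟩
  intro S hS L₁ h₁ L₂ h₂
  by_contra hne
  obtain ⟨g₁, hg₁⟩ := h₁.1
  obtain ⟨g₂, hg₂⟩ := h₂.1
  have hz₁ : Cit.zz L₁ = g₁ * z * g₁⁻¹ := by
    rw [hg₁, h.zz_cj (Cit.self_mem_cls K), hz]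
  have hz₂ : Cit.zz L₂ = g₂ * z * g₂⁻¹ := by
    rw [hg₂, h.zz_cj (Cit.self_mem_cls K), hz]
  have q₁ : QC (Cit.zz L₁) L₁ := by rw [hz₁, hg₁]; exact QC.cj' q g₁
  have q₂ : QC (Cit.zz L₂) L₂ := by rw [hz₂, hg₂]; exact QC.cj' q g₂
  have hm₁ := h.zz_mem_inf hS h₁
  have hm₂ := h.zz_mem_inf hS h₂
  have hc : ∀ x ∈ L₁ ⊓ S, Cit.zz L₂ * x = x * Cit.zz L₂ := fun x hx =>
    (h.comm hS h₁ h₂ hne hx hm₂).symm
  have hc1 := hc _ hm₁
  have hN : Cit.zz L₂ ∈ normalizer (L₁ : Set G) :=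
    centralizer_le F q₁ (mem_centralizer_singleton_iff.2 hc1)
  have hfix : Fixes (Cit.zz L₂) L₁ := by
    refine fixes_of_not_conj F q₁ hN (z_sq q₂) ?_
    intro k hk
    exact h.not_conj_mul_zz h₁.1 (Cit.syl_inf hS h₁) hc hk
  have h5 := hfix.cj g₁⁻¹
  have h6 : SignalizersComponents.IntrinsicBasic.cj g₁⁻¹ L₁ = K := by
    change Cit.cj g₁⁻¹ L₁ = K
    rw [hg₁, Cit.cj_inv_cj]
  have h7 : g₁⁻¹ * Cit.zz L₂ * g₁⁻¹⁻¹ = (g₁⁻¹ * g₂) * z * (g₁⁻¹ * g₂)⁻¹ := by
    rw [hz₂]; group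
  rw [h6, h7] at h5
  have h8 := hB (g₁⁻¹ * g₂) ?_ h5
  · have h9 : Cit.zz L₂ = Cit.zz L₁ := by
      rw [hz₁, hz₂]
      calc g₂ * z * g₂⁻¹ = g₁ * ((g₁⁻¹ * g₂) * z * (g₁⁻¹ * g₂)⁻¹) * g₁⁻¹ := by group
        _ = _ := by rw [h8]
    rw [h9] at q₂
    exact hne (F.one _ _ _ q₁.comp q₂.comp q₁.mem q₂.mem)
  · rw [← h7]
    have h10 : z = g₁⁻¹ * Cit.zz L₁ * g₁ := by rw [hz₁]; group
    calc z * (g₁⁻¹ * Cit.zz L₂ * g₁⁻¹⁻¹) = g₁⁻¹ * (Cit.zz L₁ * Cit.zz L₂) * g₁ := by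
          conv_lhs => rw [h10]
          group
      _ = g₁⁻¹ * (Cit.zz L₂ * Cit.zz L₁) * g₁ := by rw [hc1]
      _ = (g₁⁻¹ * Cit.zz L₂ * g₁⁻¹⁻¹) * z := by
          conv_rhs => rw [h10]
          group

end

end Cfsg.Agent.GH.QB.Bridge
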