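import Cfsg.Agent.TwoFusion.WreathedBasic

/-!
# Semidihedral and wreathed 2-groups have 2-rank 2
-/

set_option autoImplicit false

open Cfsg Subgroup
open Cfsg.Agent.TwoFusion.QDBasic Cfsg.Agent.TwoFusion.WreathedBasic

namespace Cfsg.Agent.GH.QB.RankTwo

theorem card_le_four {S : Type*} [Group S] {A : Subgroup S} {x₁ x₂ x₃ x₄ : S}
    (h : ∀ a ∈ A, a = x₁ ∨ a = x₂ ∨ a = x₃ ∨ a = x₄) : Nat.card A ≤ 4 := by
  have h1 : (A : Set S) ⊆ ({x₁, x₂, x₃, x₄} : Set S) := fun a ha => by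
    simpa using h a ha
  have h2 : (A : Set S).ncard ≤ ({x₁, x₂, x₃, x₄} : Set S).ncard :=
    Set.ncard_le_ncard h1 (by simp)
  have h3 : ({x₁, x₂, x₃, x₄} : Set S).ncard ≤ 4 := by
    refine (Set.ncard_insert_le _ _).trans (Nat.succ_le_succ ?_)
    refine (Set.ncard_insert_le _ _).trans (Nat.succ_le_succ ?_)
    refine (Set.ncard_insert_le _ _).trans (Nat.succ_le_succ ?_)
    rw [Set.ncard_singleton]
  exact (h2.trans h3)

/-- A subgroup whose intersection with a subgroup `C` "of index 2" is contained in `{1, w}`. -/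
theorem card_le_of_split {S : Type*} [Group S] {A : Subgroup S} {w s : S} {C : S → Prop}
    (hC : ∀ a ∈ A, C a → a = 1 ∨ a = w) (hs : s ∈ A) (hns : ∀ a, ¬ C a → C (s⁻¹ * a)) :
    Nat.card A ≤ 4 := by
  apply card_le_four (x₁ := 1) (x₂ := w) (x₃ := s) (x₄ := s * w)
  intro a ha
  by_cases h : C a
  · rcases hC a ha h with h1 | h1
    · exact Or.inl h1
    · exact Or.inr (Or.inl h1)
  · rcases hC _ (mul_mem (inv_mem hs) ha) (hns a h) with h1 | h1
    · exact Or.inr (Or.inr (Or.inl (inv_mul_eq_one.1 h1).symm))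
    · exact Or.inr (Or.inr (Or.inr (by rw [← h1, mul_inv_cancel_left])))

theorem pRankLE_of_quasiDihedral {S : Type*} [Group S] [Finite S] (h : IsQuasiDihedral S) :
    PRankLE 2 2 S := by
  obtain ⟨n, u, y, hu⟩ := exists_qdcoord h
  have hn := hu.three_le
  intro A hA hA2
  -- elements of `A` in `⟨u⟩`
  have hC : ∀ a ∈ A, (∃ i, a = u i) → a = 1 ∨ a = u (2 ^ (n - 1)) := by
    rintro _ ha ⟨i, rfl⟩
    have h1 := hA2 _ ha
    rw [sq, hu.u_mul, ← hu.u_zero] at h1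
    have h2 := hu.u_inj _ _ h1
    rw [← two_mul] at h2
    rcases (two_mul_eq_zero_iff n (by omega) i).1 h2 with h3 | h3
    · left; rw [h3, hu.u_zero]
    · right; rw [h3]
  by_cases hall : ∀ a ∈ A, ∃ i, a = u i
  · exact card_le_four (x₁ := 1) (x₂ := u (2 ^ (n - 1))) (x₃ := 1) (x₄ := 1) fun a ha => by
      rcases hC a ha (hall a ha) with h1 | h1
      · exact Or.inl h1
      · exact Or.inr (Or.inl h1)
  · push Not at hall
    obtain ⟨s, hs, hsn⟩ := hall
    refine card_le_of_split (C := fun a => ∃ i, a = u i) hC hs ?_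
    intro a ha
    rcases hu.cases s with ⟨i, hi⟩ | ⟨i, hi⟩
    · exact absurd hi (hsn i)
    rcases hu.cases a with ⟨j, hj⟩ | ⟨j, hj⟩
    · exact absurd ⟨j, hj⟩ ha
    have h1 : s⁻¹ = s := inv_eq_of_mul_eq_one_left (by rw [← sq]; exact hA2 s hs)
    refine ⟨i + (2 ^ (n - 1) - 1) * j, ?_⟩
    rw [h1, hi, hj, mul_assoc, ← mul_assoc y, hu.y_u, mul_assoc, hu.y_y, mul_one, hu.u_mul]

theorem pRankLE_of_wreathed {S : Type*} [Group S] [Finite S] (h : IsWreathed S) :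
    PRankLE 2 2 S := by
  obtain ⟨n, u, z, hu⟩ := exists_wcoord h
  have hn := hu.two_le
  intro A hA hA2
  have hC0 : ∀ i j, u i j ∈ A → (i = 0 ∨ i = 2 ^ (n - 1)) ∧ (j = 0 ∨ j = 2 ^ (n - 1)) := by
    intro i j ha
    have h1 := hA2 _ ha
    rw [sq, hu.u_mul, ← hu.u_zero] at h1
    have h2 := hu.u_inj _ _ _ _ h1
    rw [← two_mul, ← two_mul] at h2
    exact ⟨(two_mul_eq_zero_iff n (by omega) i).1 h2.1, (two_mul_eq_zero_iff n (by omega) j).1 h2.2⟩
  by_cases hall : ∀ a ∈ A, ∃ i j, a = u i j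
  · refine card_le_four (x₁ := u 0 0) (x₂ := u 0 (2 ^ (n - 1))) (x₃ := u (2 ^ (n - 1)) 0)
      (x₄ := u (2 ^ (n - 1)) (2 ^ (n - 1))) ?_
    intro a ha
    obtain ⟨i, j, rfl⟩ := hall a ha
    obtain ⟨h1 | h1, h2 | h2⟩ := hC0 i j ha <;> subst h1 <;> subst h2 <;> simp
  · push Not at hall
    obtain ⟨s, hs, hsn⟩ := hall
    rcases hu.cases s with ⟨i, j, hi⟩ | ⟨i, j, hi⟩
    · exact absurd hi (hsn i j)
    refine card_le_of_split (C := fun a => ∃ i j, a = u i j) (w := u (2 ^ (n - 1)) (2 ^ (n - 1)))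
      ?_ hs ?_
    · rintro _ ha ⟨k, l, rfl⟩
      have hcomm : s * u k l = u k l * s := by
        have := hA.is_comm.comm ⟨s, hs⟩ ⟨_, ha⟩
        exact congrArg Subtype.val this
      have h1 : l = k := by
        rw [hi, mul_assoc, hu.z_u, ← mul_assoc, hu.u_mul, ← mul_assoc, hu.u_mul] at hcomm
        have h2 := (hu.u_inj _ _ _ _ (mul_right_cancel hcomm)).1
        rw [add_comm k i] at h2
        exact add_left_cancel h2
      subst h1
      rcases (hC0 l l ha).1 with h2 | h2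
      · left; rw [h2, hu.u_zero]
      · right; rw [h2]
    · intro a ha
      rcases hu.cases a with ⟨k, l, hk⟩ | ⟨k, l, hk⟩
      · exact absurd ⟨k, l, hk⟩ ha
      have h1 : s⁻¹ = s := inv_eq_of_mul_eq_one_left (by rw [← sq]; exact hA2 s hs)
      refine ⟨i + l, j + k, ?_⟩
      rw [h1, hi, hk, mul_assoc, ← mul_assoc z, hu.z_u, mul_assoc, hu.z_z, mul_one, hu.u_mul]

/-- The 2-rank of `G` is the 2-rank of a Sylow 2-subgroup. -/
theorem pRankLE_of_sylow {G : Type*} [Group G] [Finite G] {k : ℕ} (S : Sylow 2 G)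
    (h : PRankLE 2 k (S : Subgroup G)) : PRankLE 2 k G := by
  intro A hA hA2
  have hAp : IsPGroup 2 A := fun a => ⟨1, Subtype.ext (by
    rw [pow_one]; exact hA2 a a.2)⟩
  obtain ⟨Q, hQ⟩ := hAp.exists_le_sylow
  obtain ⟨g, hg⟩ := MulAction.exists_smul_eq G Q S
  have hconj : ∀ a ∈ A, g * a * g⁻¹ ∈ (S : Subgroup G) := by
    intro a ha
    have h2 : g * a * g⁻¹ ∈ ((g • Q : Sylow 2 G) : Subgroup G) := by
      have : g * a * g⁻¹ = (MulAut.conj g) • a := rfl
      rw [this]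
      exact Subgroup.smul_mem_pointwise_smul _ _ _ (hQ ha)
    rwa [hg] at h2
  let B : Subgroup G := A.map (MulAut.conj g).toMonoidHom
  have hBS : B ≤ S := by
    rintro _ ⟨a, ha, rfl⟩
    exact hconj a ha
  have hcard : Nat.card (B.subgroupOf (S : Subgroup G)) = Nat.card A := by
    rw [Nat.card_congr (Subgroup.subgroupOfEquivOfLe hBS).toEquiv]
    exact (Nat.card_congr (A.equivMapOfInjective (MulAut.conj g).toMonoidHom
      (MulAut.conj g).injective).toEquiv).symm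
  rw [← hcard]
  apply h
  · refine ⟨⟨?_⟩⟩
    rintro ⟨⟨a, ha⟩, ha'⟩ ⟨⟨b, hb⟩, hb'⟩
    obtain ⟨a', ha1, rfl⟩ : a ∈ B := ha'
    obtain ⟨b', hb1, rfl⟩ : b ∈ B := hb'
    apply Subtype.ext
    apply Subtype.ext
    have := congrArg Subtype.val (hA.is_comm.comm ⟨a', ha1⟩ ⟨b', hb1⟩)
    show (MulAut.conj g) a' * (MulAut.conj g) b' = (MulAut.conj g) b' * (MulAut.conj g) a'
    rw [← map_mul, ← map_mul]
    exact congrArg _ this
  · rintro ⟨a, ha⟩ ha'
    obtain ⟨a', ha1, rfl⟩ : a ∈ B := ha'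
    apply Subtype.ext
    show ((MulAut.conj g) a') ^ 2 = 1
    rw [← map_pow, hA2 a' ha1, map_one]

/-- A Sylow 2-subgroup semidihedral or wreathed: 2-rank at most 2. -/
theorem pRankLE {G : Type*} [Group G] [Finite G] (S : Sylow 2 G)
    (h : IsQuasiDihedral (S : Subgroup G) ∨ IsWreathed (S : Subgroup G)) : PRankLE 2 2 G :=
  pRankLE_of_sylow S (h.elim pRankLE_of_quasiDihedral pRankLE_of_wreathed)

end Cfsg.Agent.GH.QB.RankTwo
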