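import Cfsg.Agent.Cit.OneMain
import Cfsg.Agent.GH.QB.Bridge
import Cfsg.Agent.GH.QB.RankTwo

/-!
# GH-Q, scenario B: the theorem

`main` : if no conjugate `≠ z` of `z` commuting with `z` fixes `K` then the Sylow 2-subgroups of `G` are of
type `G₂(q)` (coordinates `TG2`).
-/

set_option autoImplicit false

open Cfsg Subgroup
open Cfsg.Agent.GH.Defs Cfsg.Agent.GH.QA

namespace Cfsg.Agent.GH.QB.Main

variable {G : Type*} [Group G]

/-- a nonabelian simple group has no subgroup of index 2 -/
theorem index_ne_two (hs : IsSimpleGroup G) (hna : ¬ IsMulCommutative G) (N : Subgroup G) :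
    N.index ≠ 2 := by
  intro hi
  have hN : N.Normal := normal_of_index_eq_two hi
  rcases hN.eq_bot_or_eq_top with rfl | rfl
  · rw [Subgroup.index_bot] at hi
    have : IsCyclic G := isCyclic_of_prime_card (p := 2) (hp := ⟨Nat.prime_two⟩) hi
    exact hna (IsCyclic.isMulCommutative (α := G))
  · rw [Subgroup.index_top] at hi
    omega

/-- nonsolvable normal subgroups of a simple group have trivial centralizer -/
theorem centralizer_eq_bot (hs : IsSimpleGroup G) (hz : center G = ⊥) (N : Subgroup G)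
    (hN : N.Normal) (hns : ¬ Group.IsSolvable N) : centralizer (N : Set G) = ⊥ := by
  rcases hN.eq_bot_or_eq_top with rfl | rfl
  · exfalso
    apply hns
    infer_instance
  · rw [Subgroup.coe_top, centralizer_univ, hz]

/-- a perfect subgroup has no subgroup of index 2 -/
theorem relIndex_ne_two {K N : Subgroup G} (hperf : ⁅K, K⁆ = K) : N.relIndex K ≠ 2 := by
  intro hi
  have hidx : (N.subgroupOf K).index = 2 := hi
  have h1 : K ≤ N := by
    conv_lhs => rw [← hperf]
    rw [commutator_le]
    intro a ha b hb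
    have key : ∀ x ∈ K, ∀ y ∈ K, (x ∈ N ↔ y ∈ N) ↔ x * y ∈ N := by
      intro x hx y hy
      have := mul_mem_iff_of_index_two hidx (a := ⟨x, hx⟩) (b := ⟨y, hy⟩)
      simp only [mem_subgroupOf] at this
      exact this.symm
    rw [commutatorElement_def, ← key _ (K.mul_mem (K.mul_mem ha hb) (K.inv_mem ha)) _ (K.inv_mem hb),
      ← key _ (K.mul_mem ha hb) _ (K.inv_mem ha), ← key _ ha _ hb, inv_mem_iff, inv_mem_iff]
    tauto
  have h2 : N.relIndex K = 1 := relIndex_eq_one.2 h1
  omega

variable [Finite G]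

/-- `K` is generated by its elements of odd order -/
theorem tyTwo {z : G} {K : Subgroup G} (q : QC z K) : Cit.TyTwo K :=
  Cit.LB.tyTwo_of_relIndex fun _ _ => relIndex_ne_two q.comp.comp.perfect

/-- **scenario B** -/
theorem main (h : Hyp G) (F : Frame G) (h1173 : Cit.OneF.H1173 G) {z : G} {K : Subgroup G} (q : QC z K)
    (hB : Bridge.ScB z K) (S : Sylow 2 G) :
    ∃ m v r s, SylowG2.Coord.TG2 (S : Subgroup G) m v r s := by
  obtain ⟨h1, -⟩ := Bridge.one F q hB
  have hz := h.center_eq_bot
  have hty : ∀ L ∈ Cit.cls K, Cit.TyTwo L := by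
    rintro _ ⟨g, rfl⟩
    exact tyTwo (Bridge.QC.cj' q g)
  rcases Cit.OneMain.main_of h1 ⟨K, Cit.self_mem_cls K⟩ hty h.oddCore_eq_bot hz
    (index_ne_two h.simple h.nonComm) (centralizer_eq_bot h.simple hz) h1173 S with h2 | h2 | h2
  · exact (h.rank3 (RankTwo.pRankLE S (Or.inl h2))).elim
  · exact (h.rank3 (RankTwo.pRankLE S (Or.inr h2))).elim
  · exact h2

end Cfsg.Agent.GH.QB.Main
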